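import Groth.Agent.VecFrameLib.Basic
import Groth.Agent.FlatDescHomLib.Main
import Groth.Agent.FlatLocus.FreeNhd
import Groth.Agent.PullbackMod.LimFree
import Groth.Agent.QCohLib.FPSections
import Groth.Agent.ConormalLib.Chart

/-! Frames of locally free modules: restriction, transport, extension from a closed subscheme. -/

set_option autoImplicit false
set_option backward.isDefEq.respectTransparency false
set_option linter.style.haveILetI false

universe u

open CategoryTheory CategoryTheory.Limits AlgebraicGeometry TopologicalSpace Opposite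
open Groth.Agent.CohBase Groth.Agent.PullbackMod Groth.Agent.FlatDescHomLib

noncomputable section

namespace Groth.Agent.PinchGlueModLib

variable {X Y : Scheme.{u}} {N : X.Modules} {W : X.Opens} {n : ℕ} {b : Fin n → Γ(N, W)}

theorem basisOn_res (hb : BasisOn N W b) {V : X.Opens} (h : V ≤ W) : BasisOn N V fun i => rs N h (b i) := by
  intro O hO
  simpa only [rs_rs] using hb O (hO.trans h)

theorem subsingleton_of_bot (N : X.Modules) {V : X.Opens} (h : ∀ x : X, x ∉ V) : Subsingleton Γ(N, V) :=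
  ⟨fun _ _ => sec_ext N fun x hx => absurd hx (h x)⟩

theorem basisOn_of_empty (N : X.Modules) {W : X.Opens} (h : ∀ x : X, x ∉ W) (b : Fin n → Γ(N, W)) :
    BasisOn N W b := fun V hV => by
  haveI := subsingleton_of_bot N (V := V) fun x hx => h x (hV hx)
  haveI : Subsingleton Γ(X, V) := ⟨fun s t => TopCat.Presheaf.section_ext X.sheaf V s t fun x hx => absurd (hV hx) (h x)⟩
  exact ⟨fun _ _ _ => Subsingleton.elim _ _, fun t => ⟨0, Subsingleton.elim _ _⟩⟩

theorem isFinLocFree_of_rank (hN : FlatMod.IsFinLocFreeOfRank n N) : FlatMod.IsFinLocFree N := fun x => by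
  obtain ⟨U, hx, e⟩ := hN x
  exact ⟨U, n, hx, e⟩

theorem freeAt_of_rank (hN : FlatMod.IsFinLocFreeOfRank n N) (x : X) : FreeAt n N x := by
  haveI := (isQCoh_and_isFP_of_isFinLocFree N (isFinLocFree_of_rank hN)).1
  obtain ⟨U, hx, ⟨e⟩⟩ := hN x
  exact freeAt_of_restrict_iso N e hx

theorem exists_basis (hN : FlatMod.IsFinLocFreeOfRank n N) (x : X) :
    ∃ (D : X.Opens) (_ : IsAffineOpen D), x ∈ D ∧ Nonempty (Module.Basis (Fin n) Γ(X, D) Γ(N, D)) := by
  haveI := (isQCoh_and_isFP_of_isFinLocFree N (isFinLocFree_of_rank hN)).1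
  obtain ⟨D, hD, m, hxD, ⟨e⟩⟩ := exists_basisOn N (isFinLocFree_of_rank hN) x
  obtain ⟨i⟩ := FlatLocus.nonempty_iso_freeMod N hD m e.equivFun
  obtain rfl : m = n := freeAt_unique N (freeAt_of_restrict_iso N i hxD) (freeAt_of_rank hN x)
  exact ⟨D, hD, hxD, ⟨e⟩⟩

/-- Germs that generate a free module of rank `n` are bases. -/
theorem basisOn_of_germ (hN : FlatMod.IsFinLocFreeOfRank n N)
    (hgen : ∀ (x : X) (hx : x ∈ W) (v : N.presheaf.stalk x), ∃ c : Fin n → X.presheaf.stalk x,
      ∑ i, c i • N.presheaf.germ W x hx (b i) = v) : BasisOn N W b := by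
  intro V hV
  have hb : ∀ (x : X) (hx : x ∈ W), Function.Bijective fun r : ULift.{u} (Fin n) → X.presheaf.stalk x =>
      ∑ i, r i • N.presheaf.germ W x hx (b i.down) := by
    intro x hx
    obtain ⟨e⟩ := freeAt_of_rank hN x
    let e' := e.trans (LinearEquiv.funCongrLeft _ _ Equiv.ulift.{u, 0})
    let L := Fintype.linearCombination (X.presheaf.stalk x) fun i : ULift.{u} (Fin n) => N.presheaf.germ W x hx (b i.down)
    have hL : Function.Surjective L := fun v => by
      obtain ⟨c, hc⟩ := hgen x hx v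
      refine ⟨fun i => c i.down, ?_⟩
      rw [Fintype.linearCombination_apply, ← hc]
      exact Equiv.sum_comp Equiv.ulift (fun i => c i • N.presheaf.germ W x hx (b i))
    have hinj : Function.Injective (e'.toLinearMap ∘ₗ L) :=
      OrzechProperty.injective_of_surjective_endomorphism _ (e'.surjective.comp hL)
    exact ⟨fun r r' h => hinj (congrArg e' h), hL⟩
  have h := VecFrameLib.bijective_comb (fun i : ULift.{u} (Fin n) => b i.down) hb hV
  let σ : (Fin n → Γ(X, V)) ≃ (ULift.{u} (Fin n) → Γ(X, V)) := Equiv.arrowCongr Equiv.ulift.symm (Equiv.refl _)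
  have key : (fun c : Fin n → Γ(X, V) => ∑ i, c i • rs N hV (b i)) =
      VecFrameLib.comb (fun i : ULift.{u} (Fin n) => b i.down) hV ∘ σ := funext fun c =>
    (Equiv.sum_comp Equiv.ulift (fun i => c i • rs N hV (b i))).symm
  rw [key]
  exact h.comp σ.bijective

variable (N) in
theorem germ_smul' (U : X.Opens) (x : X) (hx : x ∈ U) (r : Γ(X, U)) (m : Γ(N, U)) :
    N.presheaf.germ U x hx (r • m) = X.presheaf.germ U x hx r • N.presheaf.germ U x hx m :=
  PresheafOfModules.germ_smul (R := X.presheaf) N.val x U hx r m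

/-- Lifts of a frame on a closed subscheme are a frame nearby. -/
theorem exists_basisOn_lift {Z : Scheme.{u}} (ι : Z ⟶ X) [IsClosedImmersion ι]
    (hN : FlatMod.IsFinLocFreeOfRank n N) {A : X.Opens} (hA : IsAffineOpen A)
    (z : Fin n → Γ((Scheme.Modules.pullback ι).obj N, ι ⁻¹ᵁ A))
    (hz : BasisOn ((Scheme.Modules.pullback ι).obj N) (ι ⁻¹ᵁ A) z) :
    ∃ (x : Fin n → Γ(N, A)) (G : X.Opens) (hG : G ≤ A), (∀ i, pullMap ι N le_rfl (x i) = z i) ∧
      (∀ p : Z, ι p ∈ A → ι p ∈ G) ∧ BasisOn N G fun i => rs N hG (x i) := by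
  obtain ⟨hq, hfp⟩ := isQCoh_and_isFP_of_isFinLocFree N (isFinLocFree_of_rank hN)
  haveI := hq
  haveI := QCohLib.finitePresentation_sections N hfp hA
  have hιA : IsAffineOpen (ι ⁻¹ᵁ A) := hA.preimage ι
  have hs : Function.Surjective (ι.app A) := ι.app_surjective A hA
  obtain ⟨h1, h2⟩ := ConormalLib.pullMap_surjective_and_eq_zero_iff ι hA hιA hs N
  choose x hx using fun i => h1 (z i)
  let S : Submodule Γ(X, A) Γ(N, A) := Submodule.span _ (Set.range x)
  let I : Ideal Γ(X, A) := RingHom.ker (ι.app A).hom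
  have hsup : (⊤ : Submodule Γ(X, A) Γ(N, A)) ≤ S ⊔ I • ⊤ := fun m _ => by
    obtain ⟨c, hc⟩ := (hz _ le_rfl).2 (pullMap ι N le_rfl m)
    choose d hd using fun i => hs (c i)
    have hdiff : m - ∑ i, d i • x i ∈ I • (⊤ : Submodule Γ(X, A) Γ(N, A)) := by
      refine (h2 _).1 ?_
      rw [map_sub, sub_eq_zero, ← hc, map_sum]
      refine Finset.sum_congr rfl fun i _ => ?_
      rw [pullMap_smul, Scheme.Hom.appLE_eq_app, hd, hx, rs, restr_self]
    refine Submodule.mem_sup.2 ⟨∑ i, d i • x i, Submodule.sum_mem _ fun i _ =>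
      S.smul_mem _ (Submodule.subset_span ⟨i, rfl⟩), _, hdiff, add_sub_cancel _ _⟩
  obtain ⟨a, ha1, ha2⟩ := Submodule.exists_sub_one_mem_and_smul_le_of_fg_of_le_sup (I := I) (N := S) Module.Finite.fg_top le_rfl hsup
  have ha : ι.app A a = 1 := by
    have : ι.app A (a - 1) = 0 := ha1
    rwa [map_sub, map_one, sub_eq_zero] at this
  refine ⟨x, X.basicOpen a, X.basicOpen_le a, hx, fun p hp => ?_, ?_⟩
  · show p ∈ ι ⁻¹ᵁ X.basicOpen a
    rw [Scheme.preimage_basicOpen, ha, Scheme.basicOpen_of_isUnit _ isUnit_one]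
    exact hp
  refine basisOn_of_germ hN fun y hy v => ?_
  have hyA : y ∈ A := X.basicOpen_le a hy
  letI := Module.compHom (N.presheaf.stalk y) (X.presheaf.germ A y hyA).hom
  letI : Algebra Γ(X, A) (X.presheaf.stalk y) := TopCat.Presheaf.algebra_section_stalk X.presheaf ⟨y, hyA⟩
  haveI := hA.isLocalization_stalk ⟨y, hyA⟩
  haveI := FlatLocus.isLocalizedModule_germL N hA y hyA
  obtain ⟨⟨m, s⟩, hms⟩ := IsLocalizedModule.surj (hA.primeIdealOf ⟨y, hyA⟩).asIdeal.primeCompl
    (FlatLocus.germL N A y hyA) v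
  have ham : a • m ∈ S := ha2 (Submodule.smul_mem_pointwise_smul m a ⊤ Submodule.mem_top)
  obtain ⟨c, hc⟩ := (Submodule.mem_span_range_iff_exists_fun _).1 ham
  have hu1 : IsUnit (X.presheaf.germ A y hyA a) := (X.mem_basicOpen a y hyA).1 hy
  have hu2 : IsUnit (X.presheaf.germ A y hyA s.1) :=
    IsLocalization.map_units (X.presheaf.stalk y) s
  have e : (X.presheaf.germ A y hyA a * X.presheaf.germ A y hyA s.1) • v =
      ∑ i, X.presheaf.germ A y hyA (c i) • N.presheaf.germ A y hyA (x i) := by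
    rw [mul_smul]
    refine Eq.trans (congrArg (X.presheaf.germ A y hyA a • ·) (show X.presheaf.germ A y hyA s.1 • v =
      N.presheaf.germ A y hyA m from hms)) ?_
    rw [← germ_smul', ← hc, map_sum]
    exact Finset.sum_congr rfl fun i _ => germ_smul' N _ _ _ _ _
  obtain ⟨w, hw⟩ := (hu1.mul hu2).exists_left_inv
  refine ⟨fun i => w * X.presheaf.germ A y hyA (c i), ?_⟩
  have e' : ∀ i, N.presheaf.germ (X.basicOpen a) y hy (rs N (X.basicOpen_le a) (x i)) =
      N.presheaf.germ A y hyA (x i) := fun i => N.presheaf.germ_res_apply _ _ _ _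
  simp only [e', mul_smul]
  rw [← Finset.smul_sum, ← e, smul_smul, hw, one_smul]

/-- A map taking bases to bases is an isomorphism. -/
theorem isIso_of_bases {N' : X.Modules} (φ : N ⟶ N')
    (h : ∀ x : X, ∃ (W : X.Opens) (b : Fin n → Γ(N, W)), x ∈ W ∧ BasisOn N W b ∧
      BasisOn N' W fun i => φ.app W (b i)) : IsIso φ := by
  refine ParaFLib.isIso_of_locally_app _ fun x => ?_
  obtain ⟨W, b, hx, hb, hb'⟩ := h x
  refine ⟨W, hx, fun O hO => (Function.Bijective.of_comp_iff _ (hb O hO)).1 ?_⟩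
  refine Eq.subst (motive := fun F : (Fin n → Γ(X, O)) → Γ(N', O) => Function.Bijective F) ?_ (hb' O hO)
  funext c
  show _ = φ.app O (∑ i, c i • rs N hO (b i))
  rw [map_sum]
  exact Finset.sum_congr rfl fun i _ => by rw [Scheme.Modules.Hom.app_smul, rs_app]

end Groth.Agent.PinchGlueModLib
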